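import Mathlib
import Cfsg.Agent.CpAut.Psl
import Cfsg.Agent.CpAut.OrthRow
import Cfsg.Agent.S0249
import Cfsg.Agent.TwoFusion.SLTwoFacts
import Cfsg.Agent.LieClassical.Order72
import Cfsg.Agent.CpAutU.Fixed
import Cfsg.Agent.LieClassical.HermPerfect
import Cfsg.Agent.S0283
import Cfsg.Agent.CpAut.RgdTwE6
import Cfsg.Agent.CpAut.RgdTwD4
import Cfsg.Agent.Prune
set_option linter.all false

section
prune_inst 0x7f00000000000000000000000000000000000000000000000000000000000000000000000000000000000000000000000000000000000000000000000000000000000000000000000000000000000000003fffffffffffffffffffffffffffbeffbdffffffff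

-- part: CpAutU/Row
section
set_option linter.all false
open scoped Cfsg.Agent.FastGrp

-- merged: Cfsg.Agent.CpAut.PslRow
section

/-!
# The row `PSL_n(F)`, `F` of characteristic `p` odd, of S1814 (helper21)

* `comps_field` : `C_K(x)`, `x` an automorphism of `K = PSL_n(F)` of order `p` which is not inner;
* `comps_field_any` : the same for any odd prime order `ℓ`, under the hypothesis that `PSL_n(F₀)` has the property;
* `autC` : the row.
-/

set_option autoImplicit false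
set_option linter.unusedSectionVars false

namespace Cfsg.Agent.CpAut.PslRow

open Matrix Cfsg
open Cfsg.Agent.ClassicalGeometry.AutPSL.Auto
open Cfsg.Agent.CpAut.Psl Cfsg.Agent.CpAut.Fix
open Cfsg.Agent.LThree (Comps)

variable {F : Type*} [Field F] [Fintype F]

/-- Components of the fixed points of a nonlinear automorphism of odd prime order `ℓ`. -/
theorem comp_field {n : ℕ} (hn : 2 ≤ n) {ℓ : ℕ} (hℓ : ℓ.Prime) {A : GL (Fin n) F} {σ : F ≃+* F} (hσ : σ ≠ 1)
    (hα : (lift (cj A * fld σ)) ^ ℓ = 1) {p : ℕ} (hp : p.Prime)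
    (h : (IsQuasisimple (Matrix.ProjectiveSpecialLinearGroup (Fin n) ↥(fixf σ)) ∧
      IsPGroup p ↥(Subgroup.center (Matrix.ProjectiveSpecialLinearGroup (Fin n) ↥(fixf σ)))) ∨
      Group.IsSolvable (Matrix.SpecialLinearGroup (Fin n) ↥(fixf σ)))
    (L : Subgroup (↥(fixedSubgroup (lift (cj A * fld σ))) ⧸ pPrimeCore p ↥(fixedSubgroup (lift (cj A * fld σ)))))
    (hL : IsComponent L) : Nonempty (Matrix.ProjectiveSpecialLinearGroup (Fin n) ↥(fixf σ) ≃* ↥L) := by
  have : Nontrivial (Fin n) := Fin.nontrivial_iff_two_le.2 hn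
  obtain ⟨hord, B, hB⟩ := exists_conj hℓ hα hσ
  have e : ↥(fixedSubgroup (lift (cj A * fld σ))) ≃* ↥(fixedSubgroup (lift (fld σ) :
      MulAut (Matrix.ProjectiveSpecialLinearGroup (Fin n) F))) := by
    refine MulEquiv.trans (MulEquiv.subgroupCongr ?_) (fixedConj (lift (cj B)) (lift (fld σ))).symm
    rw [hB, map_mul, map_mul, map_inv]
  have hS := sett (Fin n) σ
  have h1 := SignalizersComponents.Components.isComponent_map_equiv (LThree.quo p e) hL
  have e2 := L.equivMapOfInjective (LThree.quo p e).toMonoidHom (LThree.quo p e).injective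
  rcases h with ⟨h2, h3⟩ | h2
  · obtain ⟨f⟩ := hS.comp_equiv hp h2 h3 _ h1
    exact ⟨f.trans e2.symm⟩
  · exfalso
    have h3 := hS.solvable h2
    have h4 := (Comps.of_solvable (p := p) h3)
    have h5 : Group.IsSolvable (↥(fixedSubgroup (lift (fld σ) :
      MulAut (Matrix.ProjectiveSpecialLinearGroup (Fin n) F))) ⧸ pPrimeCore p ↥(fixedSubgroup (lift (fld σ) :
      MulAut (Matrix.ProjectiveSpecialLinearGroup (Fin n) F)))) := by
      have := Lib.Cores.pPrimeCore_normal (G := ↥(fixedSubgroup (lift (fld σ) :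
        MulAut (Matrix.ProjectiveSpecialLinearGroup (Fin n) F)))) p
      infer_instance
    exact SignalizersComponents.Components.quasisimple_not_isSolvable h1.2 inferInstance

/-- The fixed field has the same characteristic. -/
theorem charP_fixf {p : ℕ} [CharP F p] (σ : F ≃+* F) : CharP ↥(fixf σ) p :=
  (RingHom.charP_iff (fixf σ).subtype (fixf σ).subtype.injective p).2 inferInstance

section Row

variable {F : Type} [Field F] [Fintype F]

theorem isSimple {E : Type*} [Field E] [Fintype E] {n : ℕ} (hn : 2 ≤ n) (h4 : n = 2 → 4 ≤ Fintype.card E) :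
    IsSimpleGroup (Matrix.ProjectiveSpecialLinearGroup (Fin n) E) := by
  rcases hn.eq_or_lt with h2 | h3
  · subst h2
    exact TwoFusion.SLTwoFacts.isSimpleGroup_psl (h4 rfl)
  · exact S0249.result n h3

/-- `PSL_n(E)` is a `C_p`-group. -/
theorem inC {E : Type} [Field E] [Fintype E] {p : ℕ} [CharP E p] (hp2 : p ≠ 2) {n : ℕ} (hn : 2 ≤ n)
    (h4 : n = 2 → 4 ≤ Fintype.card E) : InC p (Matrix.ProjectiveSpecialLinearGroup (Fin n) E) := by
  have := isSimple hn h4
  exact inC_quot hp2 (Or.inl (Or.inl (Or.inl ⟨E, inferInstance, inferInstance, inferInstance, n, hn, h4,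
    ⟨MulEquiv.refl _⟩⟩)))

/-- **The row `PSL_n(F)`.** -/
theorem autC {p : ℕ} (hp : p.Prime) (hp2 : p ≠ 2) [CharP F p] {n : ℕ} (hn : 2 ≤ n)
    (h4 : n = 2 → 4 ≤ Fintype.card F) : AutC p (Matrix.ProjectiveSpecialLinearGroup (Fin n) F) := by
  have : Fact p.Prime := ⟨hp⟩
  have hsimple := isSimple (E := F) hn h4
  have hfilt : KFacts.RgdFilt.HasFilt p (Matrix.ProjectiveSpecialLinearGroup (Fin n) F) :=
    KFacts.RgdLieCharP.hasFilt_of_lie (Or.inl ⟨F, inferInstance, inferInstance, inferInstance, n, hn, h4,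
      ⟨MulEquiv.refl _⟩⟩)
  refine CharP.autC_of_filt hp hfilt not_comm_quot ?_
  intro x hx hno L hL
  have hx' : x ^ p = 1 := by rw [← hx]; exact pow_orderOf_eq_one x
  obtain ⟨A, σ, rfl⟩ := exists_of_odd hn (hp.odd_of_ne_two hp2) hx'
  have hσ : σ ≠ 1 := by
    rintro rfl
    apply hno
    rw [map_one, mul_one] at hx' ⊢
    exact inner_of_lin hn hx'
  have hchar : CharP ↥(fixf σ) p := charP_fixf σ
  have hfin : Fintype ↥(fixf σ) := Fintype.ofFinite _
  have hcard : 3 ≤ Fintype.card ↥(fixf σ) := by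
    obtain ⟨k, -, hk⟩ := FiniteField.card ↥(fixf σ) p
    have h1 : p ≤ Fintype.card ↥(fixf σ) := by
      rw [hk]
      exact Nat.le_self_pow k.ne_zero p
    have h2 := hp.two_le
    omega
  by_cases h5 : n = 2 → 4 ≤ Fintype.card ↥(fixf σ)
  · have h6 : InC p (Matrix.ProjectiveSpecialLinearGroup (Fin n) ↥(fixf σ)) := inC hp2 hn h5
    obtain ⟨e⟩ := comp_field hn hp hσ hx' hp (Or.inl ⟨h6.1, h6.2.1⟩) L hL
    exact (CpQuot.Congr.inC_iff e p).1 h6
  · push Not at h5
    obtain ⟨rfl, h6⟩ := h5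
    have h7 : Fintype.card ↥(fixf σ) = 3 := by omega
    have h8 : Group.IsSolvable (Matrix.SpecialLinearGroup (Fin 2) ↥(fixf σ)) :=
      Cfsg.Agent.LieClassical.Order72.isSolvable_of_card_dvd (by
        rw [TwoFusion.SLTwoFacts.card_eq_24 h7]; norm_num)
    obtain ⟨e⟩ := comp_field hn hp hσ hx' hp (Or.inr h8) L hL
    exfalso
    have h10 : Group.IsSolvable (Matrix.ProjectiveSpecialLinearGroup (Fin 2) ↥(fixf σ)) :=
      Group.isSolvable_of_surjective (G := Matrix.SpecialLinearGroup (Fin 2) ↥(fixf σ))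
        (f := QuotientGroup.mk' _) (QuotientGroup.mk'_surjective _)
    have h9 : Group.IsSolvable ↥L :=
      Group.isSolvable_of_surjective (f := e.toMonoidHom) e.surjective
    exact SignalizersComponents.Components.quasisimple_not_isSolvable hL.2 h9

end Row

end Cfsg.Agent.CpAut.PslRow

end

-- merged: Cfsg.Agent.CpAutU.Row
section

/-!
# The row `PSU_n(q)`, `q` a power of the odd prime `p`, of S1814 (helper70)

* `autC` : all automorphisms of order `p` of `PSU_n(q)`, `p` the characteristic;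
* `autC_of_isPSUChar` : the same for the predicate `IsPSUChar p`.
-/

set_option autoImplicit false
set_option linter.style.haveILetI false

namespace Cfsg.Agent.CpAutU.Row

open Matrix Cfsg Cfsg.Agent.CpAut Cfsg.Agent.CpAut.Psl Cfsg.Agent.CpAut.Fix Cfsg.Agent.CpAutU.Fld
open Cfsg.Agent.CpAutU.Fixed Cfsg.Agent.CpAutU.Desc
open Cfsg.Agent.ClassicalGeometry.PSUAutCount (toAut)

variable {F : Type} [Field F] [Fintype F]

/-- `PSU_n(s)` is a `C_p`-group. -/
theorem inC {p : ℕ} [CharP F p] (hp2 : p ≠ 2) {n s : ℕ} (hF : Fintype.card F = s ^ 2) (hn : 3 ≤ n)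
    (h32 : ¬ (n = 3 ∧ s = 2)) : InC p (PSU n F s) := by
  haveI := S0283.result hF n hn h32
  exact inC_quot hp2 (Or.inl (Or.inl (Or.inr (Or.inr (Or.inl ⟨F, inferInstance, inferInstance, inferInstance, n, s, hF,
    hn, h32, ⟨MulEquiv.refl _⟩⟩)))))

/-- `s ≠ 2` -/
theorem ne_two {p : ℕ} (hp : p.Prime) (hp2 : p ≠ 2) [CharP F p] {s : ℕ} (hF : Fintype.card F = s ^ 2) : s ≠ 2 := by
  rintro rfl
  haveI : Fact p.Prime := ⟨hp⟩
  obtain ⟨k, -, hk⟩ := FiniteField.card F p
  have h1 : p ∣ 2 ^ 2 := by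
    rw [← hF, hk]
    exact dvd_pow_self p k.ne_zero
  exact hp2 ((Nat.prime_dvd_prime_iff_eq hp Nat.prime_two).1 (hp.dvd_of_dvd_pow h1))

/-- **The row `PSU_n(q)`.** -/
theorem autC {p : ℕ} (hp : p.Prime) (hp2 : p ≠ 2) [CharP F p] {n q : ℕ} (hF : Fintype.card F = q ^ 2) (hn : 3 ≤ n) :
    AutC p (PSU n F q) := by
  haveI : Fact p.Prime := ⟨hp⟩
  have h32 : ¬ (n = 3 ∧ q = 2) := fun h => ne_two hp hp2 hF h.2
  haveI hsimple := S0283.result hF n hn h32
  have hfilt : KFacts.RgdFilt.HasFilt p (PSU n F q) :=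
    KFacts.RgdLieCharP.hasFilt_of_lie (Or.inr (Or.inr (Or.inl ⟨F, inferInstance, inferInstance, inferInstance, n, q, hF,
      hn, h32, ⟨MulEquiv.refl _⟩⟩)))
  refine CharP.autC_of_filt hp hfilt not_comm_quot ?_
  intro x hx hno L hL
  have hx' : x ^ p = 1 := by rw [← hx]; exact pow_orderOf_eq_one x
  obtain ⟨A, ρ, rfl⟩ := ClassicalGeometry.PSUAutMain.exists_toAut hF hn h32 x
  have hρ : ρ ≠ 1 := by
    rintro rfl
    exact hno (inner_of_lin hF hn hx')
  obtain ⟨hord, -⟩ := exists_conj hF hn hp hp2 hx' hρ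
  obtain ⟨s, -, hs, hq⟩ := exists_s' hF hord (hp.odd_of_ne_two hp2)
  haveI hchar : CharP ↥(fixf ρ) p := PslRow.charP_fixf ρ
  letI hfin : Fintype ↥(fixf ρ) := Fintype.ofFinite _
  have hF₀ : Fintype.card ↥(fixf ρ) = s ^ 2 := by rw [← Nat.card_eq_fintype_card, hs]
  have h6 : InC p (PSU n ↥(fixf ρ) s) := inC hp2 hF₀ hn fun h => ne_two hp hp2 hF₀ h.2
  obtain ⟨e⟩ := comp_field hF hn hp hp2 hx' hρ hs hq hp (Or.inl ⟨h6.1, h6.2.1⟩) L hL
  exact (CpQuot.Congr.inC_iff e p).1 h6

end Cfsg.Agent.CpAutU.Row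

end
end

-- part: CpAut/RgdTwAll
section
set_option linter.all false

/-!
# S1814: `²E₆(q)` and `³D₄(q)` in odd characteristic `p`

`autC_of_twisted` : `AutC p X` for `IsTwistedE6D4Char p X`, `p` odd; for `p = 3` the outer automorphisms of order `3` of
`³D₄(q)` are a hypothesis.
-/

set_option autoImplicit false

namespace Cfsg.Agent.CpAut.RgdTwAll

open Cfsg.Lie
open Cfsg.Agent.LThree (Comps)

/-- the outer automorphisms of order `3` of `³D₄(q)` in characteristic `3` -/
def OuterTri : Prop :=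
  ∀ (K : Type) [Field K] [Fintype K] [CharP K 3] (q : ℕ), IsPrimePow q → Fintype.card K = q ^ 3 →
    ∀ x : MulAut ↥(twistedD4 K q), orderOf x = 3 → (¬ ∃ g, x = MulAut.conj g) → Comps 3 ↥(fixedSubgroup x)

/-- inner automorphisms of `³D₄(q)` -/
theorem comps_conj_D4 {K : Type} [Field K] [Fintype K] (p : ℕ) [Fact p.Prime] [CharP K p] {q : ℕ}
    (hq : IsPrimePow q) (hK : Fintype.card K = q ^ 3) {g : ↥(twistedD4 K q)}
    (hx : orderOf (MulAut.conj g) = p) : Comps p ↥(fixedSubgroup (MulAut.conj g)) := by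
  obtain ⟨hs, hna⟩ := Cfsg.Agent.S1071.result hq hK
  have hc : ∃ a b : ↥(twistedD4 K q), a * b ≠ b * a := by
    by_contra hcon
    push Not at hcon
    exact hna ⟨⟨hcon⟩⟩
  exact RgdNoComp.comps_conj (KFacts.RgdFiltTwAll.hasFilt_D4 hq hK p) hc hx

/-- **`²E₆(q)` and `³D₄(q)` in odd characteristic `p`.** -/
theorem autC_of_twisted (p : ℕ) [Fact p.Prime] (hp2 : p ≠ 2) (hT : p = 3 → OuterTri) {X : Type*} [Group X]
    (h : IsTwistedE6D4Char p X) : AutC p X := by
  obtain ⟨K, _, _, _, q, hq, ⟨hK, ⟨e⟩⟩ | ⟨hK, ⟨e⟩⟩⟩ := h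
  · exact (RgdTwE6.autC_twistedE6 p hp2 hq hK).congr e.symm
  · by_cases hp3 : p = 3
    · subst hp3
      refine AutC.congr e.symm fun x hx => ?_
      by_cases hin : ∃ g, x = MulAut.conj g
      · obtain ⟨g, rfl⟩ := hin
        exact comps_conj_D4 3 hq hK hx
      · exact hT rfl K q hq hK x hx hin
    · exact (RgdTwD4.autC_twistedD4 p hp2 hp3 hq hK).congr e.symm

end Cfsg.Agent.CpAut.RgdTwAll
end
end
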